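import Groth.Agent.Lib.UnipPow23.Basic
import Groth.Agent.Lib.UnipConst20.Basic
import Groth.Agent.Lib.TorPts21.Split
import Groth.Agent.Lib.Deligne19.Basic
import Groth.Agent.Lib.HopfPts19.Scheme
import Groth.Prelude.Def_Red

/-!
# Commutative affine groups without subtori are killed by a power of `p`

`eq_id_pow`: powers of the identity are the power maps; `pow_eq_one_of_hasNoSubtorus`; `pow_dim_eq_one`.
-/

set_option autoImplicit false
set_option linter.style.haveILetI false
set_option backward.isDefEq.respectTransparency.types false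
set_option maxSynthPendingDepth 3
universe u v

open CategoryTheory MonoidalCategory CartesianMonoidalCategory MonObj AlgebraicGeometry Opposite
open scoped TensorProduct
open WithConv HopfRep

noncomputable section

namespace Groth.Agent.UnipPow23

open Unip23

variable {k : Type u} [Field k]

section algebra

variable {A : Type u} [CommRing A] [HopfAlgebra k A]

theorem isMulTorsionFree_groupLike [IsDomain A] : IsMulTorsionFree (GroupLike k A) := by
  classical
  haveI : IsDomain (MonoidAlgebra k (GroupLike k A)) :=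
    groupLikeHom_injective.isDomain (groupLikeHom k A : MonoidAlgebra k (GroupLike k A) →+* A)
  refine IsMulTorsionFree.of_not_isOfFinOrder fun m hm hfin => hm ?_
  by_contra hne
  have hgeo : (MonoidAlgebra.of k _ m - 1) * (∑ i ∈ Finset.range (orderOf m), MonoidAlgebra.of k _ m ^ i) = 0 := by
    rw [mul_geom_sum, ← map_pow, pow_orderOf_eq_one, map_one, sub_self]
  rcases mul_eq_zero.1 hgeo with h | h
  · exact hne (MonoidAlgebra.of_injective (R := k) (by rw [map_one, sub_eq_zero.1 h]))
  · have := congrArg (fun x : MonoidAlgebra k (GroupLike k A) => x.coeff 1) h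
    simp only [MonoidAlgebra.of_apply, MonoidAlgebra.single_pow, one_pow, MonoidAlgebra.coeff_sum,
      Finsupp.finsetSum_apply, MonoidAlgebra.coeff_zero, Finsupp.coe_zero, Pi.zero_apply,
      MonoidAlgebra.coeff_single] at this
    rw [Finset.sum_eq_single 0] at this
    · simp at this
    · intro i hi hi0
      rw [Finsupp.single_apply, if_neg]
      exact pow_ne_one_of_lt_orderOf hi0 (Finset.mem_range.1 hi)
    · intro h0
      exact absurd (Finset.mem_range.2 hfin.orderOf_pos) h0

/-- The image of a map into a group algebra is the group algebra of a subgroup. -/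
theorem exists_torus_quotient {Γ : Type v} [CommGroup Γ] (θ : A →ₐc[k] MonoidAlgebra k Γ) :
    ∃ (H : Subgroup Γ) (θ' : A →ₐc[k] MonoidAlgebra k H), Function.Surjective θ' ∧
      ∀ a, MonoidAlgebra.mapDomainBialgHom k H.subtype (θ' a) = θ a := by
  classical
  let C : Subalgebra k (MonoidAlgebra k Γ) := (θ : A →ₐ[k] MonoidAlgebra k Γ).range
  have hsupp : ∀ a : A, ∀ g ∈ (θ a).coeff.support, MonoidAlgebra.single g (1 : k) ∈ C := by
    intro a g hg
    let φ : MonoidAlgebra k Γ →ₗ[k] k := (Finsupp.lapply g).comp (MonoidAlgebra.coeffLinearEquiv k).toLinearMap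
    have e1 : (TensorProduct.lid k _) (φ.rTensor _ (CoalgebraStruct.comul (R := k) (θ a))) =
        MonoidAlgebra.single g ((θ a).coeff g) := by
      generalize θ a = x
      induction x using MonoidAlgebra.induction_linear with
      | zero => simp
      | add f h hf hh => rw [map_add, map_add, map_add, hf, hh]; simp
      | single h c =>
        rw [MonoidAlgebra.comul_single]
        by_cases e : h = g
        · subst e
          simp [φ]
        · simp [φ, e, Ne.symm e]
    have e2 : (TensorProduct.lid k _) (φ.rTensor _ (CoalgebraStruct.comul (R := k) (θ a))) ∈ C := by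
      rw [← CoalgHomClass.map_comp_comul_apply θ, ← (Coalgebra.Repr.arbitrary k a).eq]
      simp only [map_sum]
      refine sum_mem fun i _ => ?_
      simp only [TensorProduct.map_tmul, LinearMap.rTensor_tmul, TensorProduct.lid_tmul]
      exact C.smul_mem ⟨_, rfl⟩ _
    rw [e1] at e2
    have hne : (θ a).coeff g ≠ 0 := Finsupp.mem_support_iff.1 hg
    have e3 := C.smul_mem e2 ((θ a).coeff g)⁻¹
    rwa [MonoidAlgebra.smul_single, smul_eq_mul, inv_mul_cancel₀ hne] at e3
  let H : Subgroup Γ :=
    { carrier := {g | MonoidAlgebra.single g (1 : k) ∈ C}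
      one_mem' := by rw [Set.mem_setOf_eq, ← MonoidAlgebra.one_def]; exact one_mem C
      mul_mem' := fun {g h} hg hh => by
        have := C.mul_mem hg hh
        rwa [MonoidAlgebra.single_mul_single, _root_.mul_one] at this
      inv_mem' := fun {g} hg => by
        obtain ⟨a, ha⟩ := hg
        refine ⟨HopfAlgebra.antipode k a, ?_⟩
        show θ (HopfAlgebra.antipode k a) = _
        rw [HopfFF23.map_antipode θ a, show θ a = MonoidAlgebra.single g 1 from ha, MonoidAlgebra.antipode_single]
        simp }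
  let inc := MonoidAlgebra.mapDomainBialgHom k H.subtype
  have hinc : Function.Injective inc := fun x y h => MonoidAlgebra.mapDomain_injective Subtype.val_injective h
  have hC : C = (inc : MonoidAlgebra k H →ₐ[k] MonoidAlgebra k Γ).range := by
    apply le_antisymm
    · rintro _ ⟨a, rfl⟩
      show θ a ∈ _
      rw [← MonoidAlgebra.sum_single (θ a), Finsupp.sum]
      refine sum_mem fun g hg => ⟨MonoidAlgebra.single ⟨g, hsupp a g hg⟩ ((θ a).coeff g), ?_⟩
      exact MonoidAlgebra.mapDomain_single
    · rintro _ ⟨x, rfl⟩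
      show inc x ∈ C
      induction x using MonoidAlgebra.induction_linear with
      | zero => rw [map_zero]; exact C.zero_mem
      | add f h hf hh => rw [map_add]; exact C.add_mem hf hh
      | single h c =>
        have : inc (MonoidAlgebra.single h c) = c • MonoidAlgebra.single (h : Γ) (1 : k) := by
          rw [MonoidAlgebra.smul_single, smul_eq_mul, _root_.mul_one]
          exact MonoidAlgebra.mapDomain_single
        rw [this]
        exact C.smul_mem h.2 c
  let e := AlgEquiv.ofInjective (inc : MonoidAlgebra k H →ₐ[k] MonoidAlgebra k Γ) hinc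
  let θ₀ : A →ₐ[k] MonoidAlgebra k H :=
    e.symm.toAlgHom.comp ((θ : A →ₐ[k] MonoidAlgebra k Γ).codRestrict _ fun a => hC ▸ ⟨a, rfl⟩)
  have hθ₀ : ∀ a, inc (θ₀ a) = θ a := fun a => by
    show (e (e.symm _) : MonoidAlgebra k Γ) = _
    rw [e.apply_symm_apply]
    rfl
  refine ⟨H, BialgHom.ofAlgHom θ₀ (AlgHom.ext fun a => ?_) (AlgHom.ext fun a => ?_), fun x => ?_, hθ₀⟩
  · show CoalgebraStruct.counit (R := k) (θ₀ a) = CoalgebraStruct.counit a
    rw [← CoalgHomClass.counit_comp_apply inc, hθ₀, CoalgHomClass.counit_comp_apply θ]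
  · have hinj : Function.Injective (TensorProduct.map (inc : MonoidAlgebra k H →ₐ[k] MonoidAlgebra k Γ).toLinearMap
        (inc : MonoidAlgebra k H →ₐ[k] MonoidAlgebra k Γ).toLinearMap) := TensorProduct.map_injective_of_flat_flat _ _ hinc hinc
    apply hinj
    refine Eq.trans ?_ (CoalgHomClass.map_comp_comul_apply inc (θ₀ a)).symm
    rw [hθ₀, ← CoalgHomClass.map_comp_comul_apply θ]
    show TensorProduct.map _ _ (TensorProduct.map _ _ (CoalgebraStruct.comul a)) = _
    rw [TensorProduct.map_map]
    congr 2 <;> exact LinearMap.ext fun b => hθ₀ b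
  · obtain ⟨a, ha⟩ : inc x ∈ C := hC.ge ⟨x, rfl⟩
    exact ⟨a, hinc ((hθ₀ a).trans ha)⟩

theorem le_ringKrullDim [IsDomain A] [Coalgebra.IsCocomm k A] {p N : ℕ} (h : powHom (k := k) (A := A) (p ^ N) = 1) :
    ∃ m : ℕ, powHom (k := k) (A := A) (p ^ m) = 1 ∧ (m : WithBot ℕ∞) ≤ ringKrullDim A := by
  classical
  have hex : ∃ m, powHom (k := k) (A := A) (p ^ m) = 1 := ⟨N, h⟩
  refine ⟨Nat.find hex, Nat.find_spec hex, ?_⟩
  set m := Nat.find hex with hm
  let φ : ℕ → (A →ₐ[k] A) := fun i => (powHom (k := k) (A := A) (p ^ i)).ofConv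
  let P : ℕ → PrimeSpectrum A := fun i => ⟨RingHom.ker (φ i), RingHom.ker_isPrime (φ i)⟩
  have hstep : ∀ i, φ (i + 1) = (φ 1).comp (φ i) := fun i => by
    refine toConv_injective ?_
    show powHom (k := k) (A := A) (p ^ (i + 1)) = toConv ((φ 1).comp (φ i))
    rw [show φ i = (toConv (AlgHom.id k A) ^ p ^ i).ofConv from rfl, comp_pow, AlgHom.comp_id,
      show φ 1 = (toConv (AlgHom.id k A) ^ p ^ 1).ofConv from rfl, toConv_ofConv, ← pow_mul, pow_one, powHom,
      pow_succ']
  have hcomm : ∀ i, φ (i + 1) = (φ i).comp (φ 1) := fun i => by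
    induction i with
    | zero =>
      have h0 : φ 0 = AlgHom.id k A := by
        show (powHom (k := k) (A := A) (p ^ 0)).ofConv = _
        rw [powHom, pow_zero, pow_one, ofConv_toConv]
      rw [h0, AlgHom.id_comp]
    | succ i ih =>
      calc φ (i + 1 + 1) = (φ 1).comp (φ (i + 1)) := hstep _
        _ = (φ 1).comp ((φ i).comp (φ 1)) := by rw [← ih]
        _ = (φ (i + 1)).comp (φ 1) := by rw [← AlgHom.comp_assoc, ← hstep]
  have hle : ∀ i, RingHom.ker (φ i) ≤ RingHom.ker (φ (i + 1)) := fun i x hx => by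
    rw [RingHom.mem_ker] at hx ⊢
    rw [hstep, AlgHom.comp_apply, hx, map_zero]
  have hlt : ∀ i, i < m → RingHom.ker (φ i) < RingHom.ker (φ (i + 1)) := by
    intro i hi
    refine lt_of_le_of_ne (hle i) fun heq => ?_
    have hstab : ∀ j, RingHom.ker (φ (i + j)) = RingHom.ker (φ i) := by
      intro j
      induction j with
      | zero => rfl
      | succ j ih =>
        ext x
        rw [show i + (j + 1) = (i + j) + 1 from rfl, RingHom.mem_ker, hcomm, AlgHom.comp_apply]
        have h1 : (φ (i + j)) (φ 1 x) = 0 ↔ φ 1 x ∈ RingHom.ker (φ i) := by rw [← ih, RingHom.mem_ker]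
        rw [h1, RingHom.mem_ker, ← AlgHom.comp_apply, ← hcomm, ← RingHom.mem_ker, ← heq]
    refine Nat.find_min hex hi (ofConv_injective (AlgHom.ext fun a => ?_))
    have hk : a - algebraMap k A (CoalgebraStruct.counit a) ∈ RingHom.ker (φ (i + m)) := by
      have hbig : φ (i + m) = ((1 : WithConv (A →ₐ[k] A))).ofConv := by
        refine toConv_injective ?_
        show powHom (k := k) (A := A) (p ^ (i + m)) = 1
        rw [powHom, pow_add, mul_comm, pow_mul]
        have := Nat.find_spec hex
        rw [powHom] at this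
        rw [← hm] at this
        rw [this, one_pow]
      rw [RingHom.mem_ker, hbig, map_sub, AlgHom.commutes, sub_eq_zero]
      rfl
    rw [hstab m, RingHom.mem_ker, map_sub, AlgHom.commutes, sub_eq_zero] at hk
    exact hk
  refine le_of_eq_of_le ?_ (Order.LTSeries.length_le_krullDim
    { length := m, toFun := fun i => P i.1, step := fun i => hlt i.1 i.2 })
  rfl

end algebra

section scheme

variable {A : Type u} [CommRing A] [HopfAlgebra k A]

theorem id_pow_eq (m : ℕ) :
    (𝟙 (CoactBr.sp k A) : CoactBr.sp k A ⟶ CoactBr.sp k A) ^ m = CoactBr.pt (powHom (k := k) (A := A) m).ofConv := by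
  let e' := Spec.mapMulEquiv (R := k) (S := A) (T := A)
  have hid : e' (toConv (AlgHom.id k A)) = 𝟙 (CoactBr.sp k A) := Over.OverMorphism.ext (Spec.map_id _)
  rw [← hid]
  exact (map_pow e' (toConv (AlgHom.id k A)) m).symm

theorem id_pow_eq_one_iff (m : ℕ) :
    (𝟙 (CoactBr.sp k A) : CoactBr.sp k A ⟶ CoactBr.sp k A) ^ m = 1 ↔ powHom (k := k) (A := A) m = 1 := by
  let e' := Spec.mapMulEquiv (R := k) (S := A) (T := A)
  have hid : e' (toConv (AlgHom.id k A)) = 𝟙 (CoactBr.sp k A) := Over.OverMorphism.ext (Spec.map_id _)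
  rw [← hid, ← e'.injective.eq_iff, map_one]
  exact Eq.congr_left (map_pow e' (toConv (AlgHom.id k A)) m).symm

theorem powHom_eq_one_of_noSubtorus [IsAlgClosed k] (p : ℕ) [Fact p.Prime] [CharP k p] [IsDomain A]
    [Algebra.FiniteType k A] [Coalgebra.IsCocomm k A] (h : Red.HasNoSubtorus k (CoactBr.sp k A)) :
    ∃ r, powHom (k := k) (A := A) (p ^ r) = 1 := by
  classical
  obtain ⟨r, θ, hθ⟩ := exists_theta (k := k) (A := A) p
  refine ⟨r, ?_⟩
  obtain ⟨H, θ', hsurj, hθ'⟩ := exists_torus_quotient θ
  haveI := isMulTorsionFree_groupLike (k := k) (A := A)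
  haveI : IsMulTorsionFree H := Function.Injective.isMulTorsionFree H.subtype Subtype.val_injective
  haveI : Algebra.FiniteType k (MonoidAlgebra k H) :=
    Algebra.FiniteType.of_surjective (θ' : A →ₐ[k] MonoidAlgebra k H) hsurj
  haveI : Monoid.FG H := (MonoidAlgebra.finiteType_iff_fg (R := k)).1 inferInstance
  haveI : Module.Finite ℤ (Additive H) := Module.Finite.iff_addGroup_fg.2
    (AddGroup.fg_iff_addMonoid_fg.2 (Monoid.fg_iff_add_fg.1 inferInstance))
  haveI : IsAddTorsionFree (Additive H) := inferInstance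
  let ε : Multiplicative (Fin (Module.finrank ℤ (Additive H)) → ℤ) ≃* H :=
    (AddEquiv.toMultiplicative (Module.finBasis ℤ (Additive H)).equivFun.symm.toAddEquiv).trans
      (MulEquiv.multiplicativeAdditive H)
  have hT : Red.IsTorus (CoactBr.sp k (MonoidAlgebra k H)) :=
    TorPts21.isTorus_of_chars (TorPts21.charsOfBialg (MonoidAlgebra.domCongrBialgEquiv k k ε.symm))
  haveI : IsMonHom (CoactBr.pt (θ' : A →ₐ[k] MonoidAlgebra k H)) :=
    ((hopfSpec (CommRingCat.of k)).map (CommHopfAlgCat.ofHom θ').op).hom.isMonHom_hom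
  haveI : IsClosedImmersion (CoactBr.pt (θ' : A →ₐ[k] MonoidAlgebra k H)).left :=
    IsClosedImmersion.spec_of_surjective (CommRingCat.ofHom (θ' : A →ₐ[k] MonoidAlgebra k H).toRingHom) hsurj
  haveI : Mono (CoactBr.pt (θ' : A →ₐ[k] MonoidAlgebra k H)).left := inferInstance
  haveI : Mono (CoactBr.pt (θ' : A →ₐ[k] MonoidAlgebra k H)) := Over.mono_of_mono_left _
  haveI hiso : IsIso (Spec.map (CommRingCat.ofHom (algebraMap k (MonoidAlgebra k H)))) :=
    h (CoactBr.sp k (MonoidAlgebra k H)) (CoactBr.pt (θ' : A →ₐ[k] MonoidAlgebra k H)) hT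
  haveI : IsIso (Scheme.Spec.map (CommRingCat.ofHom (algebraMap k (MonoidAlgebra k H))).op) := hiso
  haveI : IsIso (CommRingCat.ofHom (algebraMap k (MonoidAlgebra k H))) := (isIso_op_iff _).1
    (isIso_of_reflects_iso _ Scheme.Spec)
  have hbij : Function.Bijective (algebraMap k (MonoidAlgebra k H)) :=
    ConcreteCategory.bijective_of_isIso (CommRingCat.ofHom (algebraMap k (MonoidAlgebra k H)))
  refine ofConv_injective (AlgHom.ext fun a => ?_)
  obtain ⟨c, hc⟩ := hbij.2 (θ' a)
  rw [← DFunLike.congr_fun hθ a]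
  show groupLikeHom k A (θ a) = algebraMap k A (CoalgebraStruct.counit a)
  have hc' : c = CoalgebraStruct.counit a := by
    have := CoalgHomClass.counit_comp_apply θ' a
    rw [← hc] at this
    rw [← this]
    exact ((Bialgebra.counitAlgHom k (MonoidAlgebra k H)).commutes c).symm
  rw [← hθ', ← hc, ← hc', AlgHomClass.commutes, AlgHomClass.commutes]

end scheme

/-- A smooth connected commutative affine group without subtori is killed by a power of `p` bounded by its dimension. -/
theorem pow_dim_eq_one [IsAlgClosed k] (p : ℕ) [Fact p.Prime] [CharP k p]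
    (G : Over (Spec (CommRingCat.of k))) [GrpObj G] [IsCommMonObj G] [Smooth G.hom] [ConnectedSpace ↥G.left]
    [IsAffine G.left] (hG : Red.HasNoSubtorus k G) (n : ℕ) (hdim : topologicalKrullDim ↥G.left = n) :
    (𝟙 G) ^ (p ^ n) = 1 := by
  obtain ⟨A, _, _, ⟨e⟩⟩ := HopfPts19.exists_model G
  let f : CoactBr.sp k A ⟶ G := e.hom.hom.hom
  let g : G ⟶ CoactBr.sp k A := e.inv.hom.hom
  have hfg : g ≫ f = 𝟙 G := congrArg (fun k => k.hom.hom) e.inv_hom_id
  have hgf : f ≫ g = 𝟙 _ := congrArg (fun k => k.hom.hom) e.hom_inv_id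
  haveI : IsIso f := ⟨g, hgf, hfg⟩
  haveI : IsMonHom f := e.hom.hom.isMonHom_hom
  haveI : IsMonHom g := e.inv.hom.isMonHom_hom
  haveI : Coalgebra.IsCocomm k A := Deligne19.isCocomm_of_comm (R := CommRingCat.of k) (CommHopfAlgCat.of k A)
    fun T (x y : T ⟶ CoactBr.sp k A) => (cancel_mono f).1
      ((MonObj.mul_comp x y f).trans ((_root_.mul_comm _ _).trans (MonObj.mul_comp y x f).symm))
  have hX : (CoactBr.sp k A).hom = f.left ≫ G.hom := (Over.w f).symm
  haveI : IsIso f.left := inferInstanceAs (IsIso ((Over.forget _).map f))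
  have hsm : Smooth (Spec.map (CommRingCat.ofHom (algebraMap k A))) := by
    show Smooth (CoactBr.sp k A).hom
    rw [hX]; infer_instance
  haveI : Algebra.Smooth k A := RingHom.smooth_algebraMap.1 ((HasRingHomProperty.Spec_iff (P := @Smooth)).1 hsm)
  haveI : Algebra.FiniteType k A := Algebra.FiniteType.of_finitePresentation
  let hh : PrimeSpectrum A ≃ₜ G.left := Scheme.homeoOfIso (asIso f.left)
  haveI : ConnectedSpace (PrimeSpectrum A) := hh.symm.surjective.connectedSpace hh.symm.continuous
  haveI : Nontrivial A := PrimeSpectrum.nonempty_iff_nontrivial.mp inferInstance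
  haveI : IsDomain A := UnipConst20.isDomain_of_connected (k := k) A fun e he => by
    rcases isClopen_iff.mp (PrimeSpectrum.isClopen_iff.mpr ⟨e, he, rfl⟩) with h | h
    · exact Or.inl (he.eq_zero_of_isNilpotent (PrimeSpectrum.basicOpen_eq_bot_iff e |>.mp (SetLike.coe_injective h)))
    · refine Or.inr ?_
      have hu : IsUnit e := by
        by_contra hne
        obtain ⟨m, hm, hem⟩ := exists_max_ideal_of_mem_nonunits hne
        exact (show (⟨m, hm.isPrime⟩ : PrimeSpectrum A) ∈ (PrimeSpectrum.basicOpen e : Set (PrimeSpectrum A)) from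
          h ▸ Set.mem_univ _) hem
      exact hu.mul_left_cancel (he.trans (_root_.mul_one e).symm)
  have hns : Red.HasNoSubtorus k (CoactBr.sp k A) := fun T _ j _ _ hT => hG T (j ≫ f) hT
  obtain ⟨r, hr⟩ := powHom_eq_one_of_noSubtorus p hns
  obtain ⟨m, hm, hle⟩ := le_ringKrullDim hr
  have hd : ringKrullDim A = n := by
    rw [← hdim, ← PrimeSpectrum.topologicalKrullDim_eq_ringKrullDim]
    exact hh.isHomeomorph.topologicalKrullDim_eq
  rw [hd] at hle
  have hmn : m ≤ n := by exact_mod_cast hle
  have hpn : (𝟙 (CoactBr.sp k A) : CoactBr.sp k A ⟶ CoactBr.sp k A) ^ p ^ n = 1 := by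
    rw [← Nat.add_sub_cancel' hmn, pow_add, pow_mul, (id_pow_eq_one_iff _).2 hm, one_pow]
  calc (𝟙 G : G ⟶ G) ^ p ^ n = g ≫ (((𝟙 (CoactBr.sp k A) : CoactBr.sp k A ⟶ _) ^ p ^ n) ≫ f) := by
        rw [MonObj.pow_comp, Category.id_comp, MonObj.comp_pow, hfg]
    _ = 1 := by rw [hpn, MonObj.one_comp, MonObj.comp_one]

end Groth.Agent.UnipPow23
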