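import Groth.Agent.Lib.Unip23.Points
import Groth.Agent.Lib.Unip23.Coinv
import Groth.Agent.S3308
import Groth.Agent.Lib.MultType.QuasiIso

/-!
# Powers of `p` on commutative affine groups in characteristic `p`

`exists_theta`: over an algebraically closed field some power map factors through the diagonalizable quotient.
`exists_torus_quotient`: the image of such a factorisation is the group algebra of a subgroup of the group-like elements.
`le_ringKrullDim`: if a power of `p` kills a connected smooth group of dimension `n`, then `p ^ n` does.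
-/

set_option autoImplicit false
set_option backward.isDefEq.respectTransparency.types false
universe u v w

open scoped TensorProduct
open WithConv HopfRep Coalgebra

noncomputable section

namespace Groth.Agent.UnipPow23

open Unip23

variable {k : Type u} [Field k] {A : Type u} [CommRing A] [HopfAlgebra k A] (p : ℕ) [Fact p.Prime] [CharP k p]

theorem pow_char_pow_eq_one_of_isUnipotent [Algebra.FiniteType k A] (hU : IsUnipotent k A)
    {T : Type w} [CommRing T] [Algebra k T] [Nontrivial T] :
    ∃ r, ∀ g : WithConv (A →ₐ[k] T), g ^ p ^ r = 1 := by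
  obtain ⟨n, hn⟩ := exists_gen_fixFil hU
  refine ⟨n, fun g => ofConv_injective (AlgHom.ext_of_adjoin_eq_top hn fun v hv => ?_)⟩
  haveI : Nontrivial (WithConv (A →ₗ[k] T)) := ⟨1, 0, fun e => one_ne_zero (α := T) (by
    have := LinearMap.congr_fun (congrArg WithConv.ofConv e) (1 : A)
    simpa [LinearMap.convOne_def] using this)⟩
  haveI : CharP (WithConv (A →ₗ[k] T)) p := charP_of_injective_algebraMap' k p
  have h : lin (g ^ p ^ n) = dev g ^ p ^ n + 1 := by
    rw [lin_pow, lin_eq, add_pow_char_pow_of_commute _ _ (Commute.one_right _), one_pow]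
  rw [← lin_apply, h, ← lin_apply, lin_one, WithConv.ofConv_add, LinearMap.add_apply,
    pow_apply_eq_zero (dev_one_apply g) hv _ (Nat.lt_pow_self (Fact.out : p.Prime).one_lt).le, zero_add]

theorem comp_pow {C : Type*} [CommRing C] [HopfAlgebra k C] {S T : Type*} [CommRing S] [Algebra k S] [CommRing T]
    [Algebra k T] (h : S →ₐ[k] T)
    (g : WithConv (C →ₐ[k] S)) (n : ℕ) : toConv (h.comp (g ^ n).ofConv) = toConv (h.comp g.ofConv) ^ n := by
  induction n with
  | zero => rw [pow_zero, pow_zero]; exact ofConv_injective (AlgHom.ext fun a => h.commutes _)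
  | succ n ih => rw [pow_succ, pow_succ, AlgHom.comp_convMul_distrib, ← ih]

theorem pow_comp {C D : Type*} [CommRing C] [HopfAlgebra k C] [CommRing D] [HopfAlgebra k D] {T : Type*} [CommRing T]
    [Algebra k T] (φ : C →ₐc[k] D)
    (g : WithConv (D →ₐ[k] T)) (n : ℕ) :
    toConv ((g ^ n).ofConv.comp (φ : C →ₐ[k] D)) = toConv (g.ofConv.comp (φ : C →ₐ[k] D)) ^ n := by
  induction n with
  | zero =>
    rw [pow_zero, pow_zero]
    exact ofConv_injective (AlgHom.ext fun a => congrArg (algebraMap k T) (CoalgHomClass.counit_comp_apply φ a))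
  | succ n ih => rw [pow_succ, pow_succ, AlgHom.convMul_comp_bialgHom_distrib, ← ih]

theorem coinv_groupLike (J : Ideal A) {g : GroupLike k A} (hg : (g : A) - 1 ∈ J) :
    (Ideal.Quotient.mkₐ k J).toLinearMap.lTensor A (comul (R := k) (g : A)) = (g : A) ⊗ₜ[k] 1 := by
  rw [g.2.comul_eq_tmul_self, LinearMap.lTensor_tmul]
  congr 1
  show Ideal.Quotient.mk J (g : A) = 1
  rw [← map_one (Ideal.Quotient.mk J), Ideal.Quotient.eq]
  exact hg

/-- The group-like elements of a Hopf algebra of finite type form a finitely generated group. -/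
theorem fg_groupLike [Algebra.FiniteType k A] : Monoid.FG (GroupLike k A) := by
  classical
  haveI : IsNoetherianRing A := Algebra.FiniteType.isNoetherianRing k A
  let f : GroupLike k A → A := fun g => (g : A) - 1
  obtain ⟨t, ht, htJ⟩ := (Submodule.fg_span_iff_fg_span_finset_subset (R := A) (Set.range f)).1
    (IsNoetherian.noetherian _)
  obtain ⟨s, -, hs⟩ := Finset.subset_set_image_iff.1 (show (t : Set A) ⊆ f '' Set.univ by rwa [Set.image_univ])
  let H : Subgroup (GroupLike k A) := Subgroup.closure (s : Set (GroupLike k A))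
  haveI : Group.FG H := Group.closure_finset_fg s
  haveI : Monoid.FG H := Group.fg_iff_monoid_fg.1 inferInstance
  let ψ : MonoidAlgebra k H →ₐc[k] A := (groupLikeHom k A).comp (MonoidAlgebra.mapDomainBialgHom k H.subtype)
  have hψ : ∀ g : H, ψ (MonoidAlgebra.single g 1) = ((g : GroupLike k A) : A) := fun g => by
    show groupLikeHom k A (MonoidAlgebra.mapDomainBialgHom k H.subtype (MonoidAlgebra.single g 1)) = _
    simp [groupLikeHom_single]
  let J : Ideal A := Ideal.map (ψ : MonoidAlgebra k H →+* A) (RingHom.ker (Bialgebra.counitAlgHom k (MonoidAlgebra k H)))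
  have hsub : ∀ g ∈ s, f g ∈ J := fun g hg => by
    have : MonoidAlgebra.single (⟨g, Subgroup.subset_closure hg⟩ : H) (1 : k) - 1 ∈
        RingHom.ker (Bialgebra.counitAlgHom k (MonoidAlgebra k H)) := by simp [RingHom.mem_ker]
    have h2 := Ideal.mem_map_of_mem (ψ : MonoidAlgebra k H →+* A) this
    rw [map_sub, map_one] at h2
    rwa [show (ψ : MonoidAlgebra k H →+* A) (MonoidAlgebra.single (⟨g, Subgroup.subset_closure hg⟩ : H) (1 : k)) =
      (g : A) from hψ _] at h2
  have hall : ∀ g : GroupLike k A, f g ∈ J := fun g => by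
    refine (Submodule.span_le.2 ?_ : Submodule.span A (t : Set A) ≤ J) (htJ ▸ Submodule.subset_span ⟨g, rfl⟩)
    intro x hx
    rw [← hs] at hx
    obtain ⟨y, hy, rfl⟩ := Finset.mem_image.1 hx
    exact hsub y hy
  suffices H = ⊤ by
    haveI : Monoid.FG (⊤ : Subgroup (GroupLike k A)) := this ▸ ‹Monoid.FG H›
    exact Monoid.fg_of_surjective (Subgroup.topEquiv (G := GroupLike k A)).toMonoidHom
      (Subgroup.topEquiv (G := GroupLike k A)).surjective
  refine eq_top_iff.2 fun g _ => ?_
  obtain ⟨x, hx⟩ := mem_range_of_coinvariant ψ J le_rfl (coinv_groupLike J (hall g))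
  have hx' : groupLikeHom k A (MonoidAlgebra.mapDomainBialgHom k H.subtype x) =
      groupLikeHom k A (MonoidAlgebra.single g 1) := hx.trans (by rw [groupLikeHom_single, one_smul])
  have h3 := congrArg (fun y => MonoidAlgebra.coeff y g) (groupLikeHom_injective hx')
  by_contra hg
  refine one_ne_zero (α := k) ?_
  simp only [MonoidAlgebra.coeff_single, Finsupp.single_eq_same] at h3
  rw [← h3]
  show (MonoidAlgebra.mapDomain _ x).coeff g = 0
  rw [MonoidAlgebra.coeff_mapDomain, Finsupp.mapDomain_of_notMem_range]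
  rintro ⟨y, rfl⟩
  exact hg y.2

/-- The `n`-th power map on coordinates. -/
def powHom (n : ℕ) : WithConv (A →ₐ[k] A) := toConv (AlgHom.id k A) ^ n

variable [IsCocomm k A]

theorem comul_powHom (n : ℕ) :
    (Bialgebra.comulAlgHom k A).comp (powHom (A := A) (k := k) n).ofConv =
      (Algebra.TensorProduct.map (powHom n).ofConv (powHom n).ofConv).comp (Bialgebra.comulAlgHom k A) := by
  let L : A →ₐ[k] A ⊗[k] A := Algebra.TensorProduct.includeLeft
  let R : A →ₐ[k] A ⊗[k] A := Algebra.TensorProduct.includeRight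
  have hΔ : toConv (Bialgebra.comulAlgHom k A) = toConv L * toConv R := by
    refine ofConv_injective (AlgHom.ext fun a => ?_)
    rw [AlgHom.convMul_apply, ← (ℛ k a).eq, map_sum]
    simp [L, R, (ℛ k a).eq]
  have hmap : toConv ((Algebra.TensorProduct.map (powHom n).ofConv (powHom n).ofConv).comp (Bialgebra.comulAlgHom k A))
      = toConv L ^ n * toConv R ^ n := by
    refine ofConv_injective (AlgHom.ext fun a => ?_)
    show Algebra.TensorProduct.map _ _ (Bialgebra.comulAlgHom k A a) = _
    rw [AlgHom.convMul_apply, powHom]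
    have hL : ∀ x, L (((toConv (AlgHom.id k A)) ^ n).ofConv x) = (toConv L ^ n).ofConv x := fun x => by
      have := congrArg (fun z : WithConv (A →ₐ[k] A ⊗[k] A) => z.ofConv x) (comp_pow L (toConv (AlgHom.id k A)) n)
      simpa using this
    have hR : ∀ x, R (((toConv (AlgHom.id k A)) ^ n).ofConv x) = (toConv R ^ n).ofConv x := fun x => by
      have := congrArg (fun z : WithConv (A →ₐ[k] A ⊗[k] A) => z.ofConv x) (comp_pow R (toConv (AlgHom.id k A)) n)
      simpa using this
    show Algebra.TensorProduct.map _ _ (comul (R := k) a) = _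
    rw [← (ℛ k a).eq, map_sum, map_sum]
    refine Finset.sum_congr rfl fun i _ => ?_
    simp only [Algebra.TensorProduct.map_tmul, TensorProduct.map_tmul, LinearMap.mul'_apply, Algebra.TensorProduct.lift_tmul,
      AlgHom.toLinearMap_apply, ← hL, ← hR, L, R, Algebra.TensorProduct.includeLeft_apply,
      Algebra.TensorProduct.includeRight_apply, Algebra.TensorProduct.tmul_mul_tmul, one_mul, mul_one]
  have := (comp_pow (Bialgebra.comulAlgHom k A) (toConv (AlgHom.id k A)) n)
  refine toConv_injective ?_
  rw [hmap, ← mul_pow, ← hΔ]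
  simpa [powHom] using this

theorem counit_powHom (n : ℕ) :
    (Bialgebra.counitAlgHom k A).comp (powHom (A := A) (k := k) n).ofConv = Bialgebra.counitAlgHom k A := by
  refine toConv_injective ?_
  rw [powHom, comp_pow, AlgHom.comp_id]
  show (1 : WithConv (A →ₐ[k] k)) ^ n = 1
  exact one_pow n

/-- The `n`-th power map of a commutative Hopf algebra. -/
def powBialg (n : ℕ) : A →ₐc[k] A :=
  BialgHom.ofAlgHom (powHom n).ofConv (counit_powHom n) (comul_powHom n).symm

/-- Some power map factors through the group algebra of the group-like elements. -/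
theorem exists_theta [Algebra.FiniteType k A] [IsAlgClosed k] :
    ∃ (r : ℕ) (θ : A →ₐc[k] MonoidAlgebra k (GroupLike k A)),
      (groupLikeHom k A : MonoidAlgebra k (GroupLike k A) →ₐ[k] A).comp (θ : A →ₐ[k] MonoidAlgebra k (GroupLike k A)) =
        (powHom (p ^ r)).ofConv := by
  have hT : IsTrigonalizable k A := S3308.result k A
  let ψ := groupLikeHom k A
  haveI : Algebra.FiniteType k (MonoidAlgebra k (GroupLike k A)) := by
    haveI := fg_groupLike (k := k) (A := A)
    infer_instance
  let J : Ideal A := Ideal.map (ψ : MonoidAlgebra k (GroupLike k A) →+* A)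
    (RingHom.ker (Bialgebra.counitAlgHom k (MonoidAlgebra k (GroupLike k A))))
  haveI : J.IsHopfIdeal k := MultTypeLib.isHopfIdeal_map_aug ψ
  have hJ : ∀ g : GroupLike k A, (g : A) - 1 ∈ J := fun g => by
    have : MonoidAlgebra.single g 1 - 1 ∈ RingHom.ker (Bialgebra.counitAlgHom k (MonoidAlgebra k (GroupLike k A))) := by
      simp [RingHom.mem_ker]
    have h2 := Ideal.mem_map_of_mem (ψ : MonoidAlgebra k (GroupLike k A) →+* A) this
    simpa [J, ψ, groupLikeHom_single] using h2
  haveI : Nontrivial (A ⧸ J) := (Bialgebra.counitAlgHom k (A ⧸ J)).toRingHom.domain_nontrivial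
  obtain ⟨r, hr⟩ := pow_char_pow_eq_one_of_isUnipotent p (isUnipotent_kernel hT J hJ) (T := A ⧸ J)
  have hq : (Ideal.Quotient.mkₐ k J).comp (powHom (A := A) (p ^ r)).ofConv =
      (Algebra.ofId k (A ⧸ J)).comp (Bialgebra.counitAlgHom k A) := by
    refine toConv_injective ?_
    rw [powHom, comp_pow, AlgHom.comp_id]
    let q : A →ₐc[k] A ⧸ J := Bialgebra.Quotient.mkBialgHom (R := k) J
    have h := congrArg (fun z : WithConv (A ⧸ J →ₐ[k] A ⧸ J) => toConv (z.ofConv.comp (q : A →ₐ[k] A ⧸ J)))
      (hr (toConv (AlgHom.id k (A ⧸ J))))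
    rw [pow_comp, AlgHom.id_comp] at h
    refine h.trans (ofConv_injective (AlgHom.ext fun a => ?_))
    exact congrArg (algebraMap k (A ⧸ J)) (CoalgHomClass.counit_comp_apply q a)
  have hmem : ∀ a, (powHom (A := A) (p ^ r)).ofConv a ∈ (ψ : MonoidAlgebra k (GroupLike k A) →ₐ[k] A).range := fun a => by
    refine mem_range_of_coinvariant ψ J le_rfl ?_
    have h1 : (Ideal.Quotient.mkₐ k J).toLinearMap.lTensor A
        (comul (R := k) ((powHom (A := A) (p ^ r)).ofConv a)) =
        Algebra.TensorProduct.map (AlgHom.id k A) (Ideal.Quotient.mkₐ k J)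
          ((Bialgebra.comulAlgHom k A).comp (powHom (A := A) (p ^ r)).ofConv a) := rfl
    rw [h1, comul_powHom, AlgHom.comp_apply]
    have h2 : (Algebra.TensorProduct.map (AlgHom.id k A) (Ideal.Quotient.mkₐ k J)).comp
        (Algebra.TensorProduct.map (powHom (A := A) (p ^ r)).ofConv (powHom (A := A) (p ^ r)).ofConv) =
        (Algebra.TensorProduct.includeLeft.comp (powHom (A := A) (p ^ r)).ofConv).comp
          ((Algebra.TensorProduct.rid k k A).toAlgHom.comp
            (Algebra.TensorProduct.map (AlgHom.id k A) (Bialgebra.counitAlgHom k A))) := by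
      refine Algebra.TensorProduct.ext' fun x y => ?_
      simp only [AlgHom.comp_apply, Algebra.TensorProduct.map_tmul, AlgHom.id_apply, AlgEquiv.toAlgHom_apply,
        Algebra.TensorProduct.rid_tmul, Algebra.TensorProduct.includeLeft_apply, map_smul]
      have := congrArg (fun f : A →ₐ[k] A ⧸ J => f y) hq
      simp only [AlgHom.comp_apply, Algebra.ofId_apply] at this
      rw [this, Algebra.algebraMap_eq_smul_one, TensorProduct.tmul_smul, TensorProduct.smul_tmul']
    rw [← AlgHom.comp_apply, h2]
    simp only [AlgHom.comp_apply, Algebra.TensorProduct.includeLeft_apply]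
    congr 2
    show (TensorProduct.rid k A) (LinearMap.lTensor A (counit (R := k)) (comul (R := k) a)) = a
    rw [Coalgebra.lTensor_counit_comul, TensorProduct.rid_tmul, one_smul]
  let e := AlgEquiv.ofInjective (ψ : MonoidAlgebra k (GroupLike k A) →ₐ[k] A) groupLikeHom_injective
  let θ₀ : A →ₐ[k] MonoidAlgebra k (GroupLike k A) :=
    e.symm.toAlgHom.comp ((powHom (A := A) (p ^ r)).ofConv.codRestrict _ hmem)
  have hθ₀ : (ψ : MonoidAlgebra k (GroupLike k A) →ₐ[k] A).comp θ₀ = (powHom (A := A) (p ^ r)).ofConv := AlgHom.ext fun a => by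
    show (e (e.symm _) : A) = _
    rw [e.apply_symm_apply]
    rfl
  have hψ : Function.Injective ψ := groupLikeHom_injective
  refine ⟨r, BialgHom.ofAlgHom θ₀ ?_ ?_, hθ₀⟩
  · rw [← BialgHomClass.counitAlgHom_comp ψ, AlgHom.comp_assoc]
    exact (congrArg (Bialgebra.counitAlgHom k A).comp hθ₀).trans (counit_powHom _)
  · refine AlgHom.ext fun a => ?_
    have hinj : Function.Injective (Algebra.TensorProduct.map (ψ : MonoidAlgebra k (GroupLike k A) →ₐ[k] A) (ψ : MonoidAlgebra k (GroupLike k A) →ₐ[k] A)) := by
      show Function.Injective (TensorProduct.map (ψ : MonoidAlgebra k (GroupLike k A) →ₐ[k] A).toLinearMap (ψ : MonoidAlgebra k (GroupLike k A) →ₐ[k] A).toLinearMap)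
      exact TensorProduct.map_injective_of_flat_flat _ _ hψ hψ
    apply hinj
    rw [← AlgHom.comp_apply, ← AlgHom.comp_assoc, ← Algebra.TensorProduct.map_comp, hθ₀, ← comul_powHom,
      ← hθ₀, ← AlgHom.comp_apply]
    refine DFunLike.congr_fun ?_ a
    rw [← AlgHom.comp_assoc, ← AlgHom.comp_assoc]
    exact congrArg (fun f : MonoidAlgebra k (GroupLike k A) →ₐ[k] A ⊗[k] A => f.comp θ₀)
      (BialgHomClass.map_comp_comulAlgHom ψ).symm

end Groth.Agent.UnipPow23
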